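import Groth.Agent.Surf15.SerreApps
import Groth.Agent.Surf15.CycleSections
import Groth.Agent.Surf15.CurveRestrict
import Groth.Agent.Surf15.Connected
import Groth.Agent.AbCubeLib.MulBy

/-!
# Sections of inverses of very ample modules on schemes with only constant functions
-/

set_option autoImplicit false
set_option linter.style.haveILetI false
set_option linter.unusedSectionVars false
set_option backward.isDefEq.respectTransparency.types false

universe u

open CategoryTheory CategoryTheory.Limits AlgebraicGeometry Opposite TopologicalSpace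
open Groth.Agent.Coherent Groth.Agent.PicLib Groth.Agent.AmpleLib Groth.Agent.EulerLib
open Groth.Agent.CurveRR24

namespace Groth.Agent.DelPezzo14

variable {Y : Scheme.{u}} (k : Type u) [Field k] [Y.Over (Spec (CommRingCat.of k))]
  [IsProper (Y ↘ Spec (CommRingCat.of k))]

include k in
/-- An inverse of an ample module with sections covering has no sections if the functions are constant. -/
theorem eq_zero_of_inverse_ample (hfun : Module.finrank k (Coh.HH Y (Coh.structureModule Y) 0) = 1)
    (hnfin : ¬ IsFinite (Y ↘ Spec (CommRingCat.of k))) {P M : Y.Modules} (hP : CohB1.IsAmple P)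
    (hM : PicF.IsInvertible M) (e : CohB1.tensorMod M P ≅ Coh.structureModule Y)
    (hcov : ∀ y : Y, ∃ s : Γ(P, ⊤), y ∈ glocus P s) (a : Γ(M, ⊤)) : a = 0 := by
  haveI := isNoetherian_of_proper (X := Y) k
  haveI : Nonempty Y := by
    by_contra h
    rw [not_nonempty_iff] at h
    exact hnfin inferInstance
  -- the functions are constant, so a nonzero one is invertible
  have hfield : ∀ r : Γ(Y, ⊤), r = 0 ∨ IsUnit r := by
    intro r
    letI : Module k Γ(Y, ⊤) := Module.compHom _ (show k →+* Γ(Y, ⊤) from Coh.toGlobal (Y ↘ Spec (CommRingCat.of k)))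
    have h1 : Module.finrank k Γ(Y, ⊤) = 1 := (hhZero k (Coh.structureModule Y)).finrank_eq.symm.trans hfun
    haveI : Nontrivial Γ(Y, ⊤) := Module.nontrivial_of_finrank_eq_succ h1
    obtain ⟨c, hc⟩ := (finrank_eq_one_iff_of_nonzero' (1 : Γ(Y, ⊤)) one_ne_zero).1 h1 r
    rcases eq_or_ne c 0 with rfl | hc0
    · exact Or.inl (hc.symm.trans (zero_smul k (1 : Γ(Y, ⊤))))
    · refine Or.inr (hc ▸ ?_)
      show IsUnit ((show k →+* Γ(Y, ⊤) from Coh.toGlobal (Y ↘ Spec (CommRingCat.of k))) c * 1)
      rw [mul_one]
      exact (Ne.isUnit hc0).map _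
  refine sec_ext M a 0 fun y _ => ?_
  obtain ⟨s, hs⟩ := hcov y
  have hzero : tmul a s = 0 := by
    rcases hfield (show Γ(Y, ⊤) from e.hom.app ⊤ (tmul a s)) with h | h
    · have h' := (congrArg (fun z : Γ(Coh.structureModule Y, ⊤) => e.inv.app ⊤ z) h).trans (map_zero (e.inv.app ⊤).hom)
      exact (ConcreteCategory.congr_hom (congrArg (fun φ => Scheme.Modules.Hom.app φ ⊤) e.hom_inv_id) (tmul a s)).symm.trans h'
    · exfalso
      have htop : glocus (CohB1.tensorMod M P) (tmul a s) = ⊤ := by
        rw [← glocus_map_iso e]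
        have h1 := glocus_smul (L := Coh.structureModule Y) h (oneSec ⊤)
        rw [glocus_oneSec] at h1
        refine Eq.trans (congrArg (glocus _) ?_) h1
        exact (mul_one (show Γ(Y, ⊤) from e.hom.app ⊤ (tmul a s))).symm
      rw [glocus_tmul hM hP.1] at htop
      obtain ⟨i⟩ := Surf15.nonempty_iso_of_glocus_eq_top (eq_top_iff.2 (htop.ge.trans inf_le_right))
      exact hnfin (AbCubeLib.isFinite_of_isAmple_structureModule _ (isAmple_of_iso i hP))
  obtain ⟨U, hyU, g, hg⟩ := exists_isGen hM y
  refine ⟨U ⊓ glocus P s, le_top, ⟨hyU, hs⟩, ?_⟩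
  have hgU : IsGen M (U ⊓ glocus P s) (resM M inf_le_left g) := hg.restrict inf_le_left
  have hsU : IsGen P (U ⊓ glocus P s) (resM P le_top s) := by
    have := (isGen_glocus (L := P) s).restrict (inf_le_right : U ⊓ glocus P s ≤ _)
    rwa [resM_resM] at this
  have hgen := isGen_tmul hgU hsU
  have hb := hgU.coef_spec le_rfl (resM M le_top a)
  rw [resM_self] at hb
  have h0 : tmul (resM M le_top a) (resM P (le_top : U ⊓ glocus P s ≤ ⊤) s) = 0 := by
    rw [← resM_tmul, hzero, map_zero]
  rw [← hb, tmul_smul_left] at h0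
  have hc : hgU.coef le_rfl (resM M le_top a) = 0 := (hgen _ le_rfl).1 (by
    simp only [resM_self, zero_smul]; exact h0)
  rw [map_zero, ← hb, hc, zero_smul]

end Groth.Agent.DelPezzo14
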